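import Mathlib

/-! The generator bound for groups of unitriangular matrices. -/

set_option autoImplicit false

namespace Cfsg.Agent.RankBound

open Finset

/-- Mantel's bound for a set of ordered pairs with no triangle. -/
theorem triangle_free_bound {α : Type*} [LinearOrder α] : ∀ (n : ℕ) (s : Finset α) (T : Finset (α × α)),
    s.card = n → (∀ e ∈ T, e.2 < e.1 ∧ e.1 ∈ s ∧ e.2 ∈ s) →
    (∀ i j l, (i, j) ∈ T → (j, l) ∈ T → (i, l) ∉ T) → 4 * T.card ≤ n * n := by
  intro n
  induction n using Nat.strong_induction_on with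
  | h n ih =>
  intro s T hs hT htri
  rcases T.eq_empty_or_nonempty with h0 | ⟨⟨i, j⟩, he⟩
  · simp [h0]
  obtain ⟨hlt, his, hjs⟩ := hT _ he
  simp only at hlt his hjs
  set s' := (s.erase i).erase j with hs'
  have hs'c : s'.card + 2 = n := by
    rw [hs', card_erase_of_mem (mem_erase.2 ⟨hlt.ne, hjs⟩), card_erase_of_mem his, hs]
    have : 1 < s.card := one_lt_card.2 ⟨i, his, j, hjs, hlt.ne'⟩
    omega
  set T1 := T.filter fun e => e.1 ∈ s' ∧ e.2 ∈ s' with hT1
  have h1 := ih s'.card (by omega) s' T1 rfl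
    (fun e h => ⟨(hT e (mem_filter.1 h).1).1, (mem_filter.1 h).2⟩)
    (fun a b c h h' h'' => htri a b c (mem_filter.1 h).1 (mem_filter.1 h').1 (mem_filter.1 h'').1)
  let f : α × α → α := fun e => if e.1 = i ∨ e.1 = j then e.2 else e.1
  set T2 := (T \ T1).erase (i, j) with hT2
  have hmem : ∀ x, x ∈ s' ↔ x ≠ j ∧ x ≠ i ∧ x ∈ s := fun x => by simp [s', and_assoc]
  have hinc : ∀ e ∈ T2, (∃ x ∈ s', e = (i, x) ∨ e = (j, x) ∨ e = (x, i) ∨ e = (x, j)) := by
    rintro ⟨u, w⟩ h
    obtain ⟨hne, h⟩ := mem_erase.1 h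
    obtain ⟨hT', hn⟩ := mem_sdiff.1 h
    obtain ⟨hwu, hu, hw⟩ := hT _ hT'
    simp only at hwu hu hw
    by_cases hu' : u ∈ s'
    · have hw' : w ∉ s' := fun hw' => hn (mem_filter.2 ⟨hT', hu', hw'⟩)
      rw [hmem] at hw'
      refine ⟨u, hu', ?_⟩
      by_cases hwj : w = j
      · subst hwj; exact Or.inr (Or.inr (Or.inr rfl))
      · have hwi : w = i := by by_contra hwi; exact hw' ⟨hwj, hwi, hw⟩
        subst hwi; exact Or.inr (Or.inr (Or.inl rfl))
    · rw [hmem] at hu'
      have hu2 : u = j ∨ u = i := by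
        by_contra hcon
        rw [not_or] at hcon
        exact hu' ⟨hcon.1, hcon.2, hu⟩
      have hw' : w ∈ s' := by
        rw [hmem]
        rcases hu2 with rfl | rfl
        · exact ⟨hwu.ne, (hwu.trans hlt).ne, hw⟩
        · exact ⟨fun e => hne (by rw [e]), hwu.ne, hw⟩
      refine ⟨w, hw', ?_⟩
      rcases hu2 with rfl | rfl
      · exact Or.inr (Or.inl rfl)
      · exact Or.inl rfl
  have hfx : ∀ x ∈ s', ∀ e, (e = (i, x) ∨ e = (j, x) ∨ e = (x, i) ∨ e = (x, j)) → f e = x := by
    intro x hx e he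
    have hxj := ((hmem x).1 hx).1
    have hxi := ((hmem x).1 hx).2.1
    rcases he with rfl | rfl | rfl | rfl <;> simp [f, hxi, hxj]
  have hT2c : T2.card ≤ s'.card := by
    refine card_le_card_of_injOn f (fun e h => ?_) (fun e h e' h' hee => ?_)
    · obtain ⟨x, hx, hex⟩ := hinc e h
      rw [mem_coe, hfx x hx e hex]
      exact hx
    · obtain ⟨x, hx, hex⟩ := hinc e h
      obtain ⟨x', hx', hex'⟩ := hinc e' h'
      rw [hfx x hx e hex, hfx x' hx' e' hex'] at hee
      subst hee
      have hm : e ∈ T := (mem_sdiff.1 (mem_erase.1 h).2).1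
      have hm' : e' ∈ T := (mem_sdiff.1 (mem_erase.1 h').2).1
      by_contra hne
      rcases hex with rfl | rfl | rfl | rfl <;> rcases hex' with rfl | rfl | rfl | rfl <;>
        first
        | exact hne rfl
        | exact htri _ _ _ he hm hm'
        | exact htri _ _ _ he hm' hm
        | exact htri _ _ _ hm he hm'
        | exact htri _ _ _ hm' he hm
        | exact htri _ _ _ hm hm' he
        | exact htri _ _ _ hm' hm he
        | exact lt_asymm (hT _ hm).1 (hT _ hm').1
        | exact lt_asymm hlt ((hT _ hm).1.trans (hT _ hm').1)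
        | exact lt_asymm hlt ((hT _ hm').1.trans (hT _ hm).1)
  have hsplit : T.card ≤ T1.card + T2.card + 1 := by
    have e1 : (T \ T1).card + T1.card = T.card := card_sdiff_add_card_eq_card (filter_subset _ _)
    have e2 := card_le_card_sdiff_add_card (s := T \ T1) (t := {(i, j)})
    rw [card_singleton, ← erase_eq, ← hT2] at e2
    omega
  rw [← hs'c]
  nlinarith

variable {p : ℕ} [hp : Fact p.Prime] {G : Type*} [Group G] [Finite G] {a : ℕ}

/-- the order on positions -/
def kap {a : ℕ} (x z : Fin a) : ℕ := ((x : ℕ) - z) * a + z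

theorem kap_lt {x y z : Fin a} (hzy : z < y) (hyx : y < x) : kap x y < kap x z ∧ kap y z < kap x z := by
  have h1 : ((x : ℕ) - y) + 1 ≤ (x : ℕ) - z := by omega
  have h2 : ((y : ℕ) - z) + 1 ≤ (x : ℕ) - z := by omega
  have e1 := Nat.mul_le_mul_right a h1
  have e2 := Nat.mul_le_mul_right a h2
  rw [add_mul, one_mul] at e1 e2
  have := y.isLt
  have := z.isLt
  unfold kap
  omega

theorem kap_inj {x z x' z' : Fin a} (hzx : z < x) (hzx' : z' < x') (h : kap x z = kap x' z') : x = x' ∧ z = z' := by
  unfold kap at h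
  have h1 : (z : ℕ) = z' := by
    have := congrArg (fun n => n % a) h
    simpa [Nat.mul_add_mod_self_right, Nat.add_mod, Nat.mul_mod_left, Nat.mod_eq_of_lt z.isLt,
      Nat.mod_eq_of_lt z'.isLt] using this
  rw [h1] at h
  have h2 : ((x : ℕ) - z') * a = ((x' : ℕ) - z') * a := Nat.add_right_cancel h
  have h3 := Nat.eq_of_mul_eq_mul_right (by have := z.isLt; omega) h2
  exact ⟨Fin.ext (by omega), Fin.ext h1⟩

section
variable (φ : G →* Matrix (Fin a) (Fin a) (ZMod p))
  (hlow : ∀ g i j, ¬ j < i → φ g i j = if i = j then 1 else 0)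

/-- vanishing at the positions before `n` -/
def Van (n : ℕ) (g : G) : Prop := ∀ x z : Fin a, z < x → kap x z < n → φ g x z = 0

include hlow

theorem mul_entry (g h : G) (x z : Fin a) (hzx : z < x) :
    φ (g * h) x z = φ g x z + φ h x z + ∑ y ∈ Finset.Ioo z x, φ g x y * φ h y z := by
  classical
  rw [map_mul, Matrix.mul_apply]
  have hout : ∀ y ∈ (Finset.univ : Finset (Fin a)), y ∉ insert x (insert z (Finset.Ioo z x)) → φ g x y * φ h y z = 0 := by
    intro y _ hy
    simp only [Finset.mem_insert, Finset.mem_Ioo, not_or, not_and, not_lt] at hy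
    obtain ⟨h1, h2, h3⟩ := hy
    rcases lt_or_gt_of_ne h2 with h4 | h4
    · rw [hlow h y z (not_lt.2 h4.le), if_neg h2, mul_zero]
    · rw [hlow g x y (not_lt.2 (h3 h4)), if_neg (Ne.symm h1), zero_mul]
  rw [← Finset.sum_subset (Finset.subset_univ _) hout, Finset.sum_insert (by simp [hzx.ne']),
    Finset.sum_insert (by simp), hlow g x x (lt_irrefl x), hlow h z z (lt_irrefl z)]
  simp only [if_true, mul_one, one_mul]
  ring

theorem mul_entry_van {n : ℕ} {g h : G} (hg : Van φ n g) (x z : Fin a) (hzx : z < x) (hn : kap x z ≤ n) :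
    φ (g * h) x z = φ g x z + φ h x z := by
  rw [mul_entry φ hlow g h x z hzx, Finset.sum_eq_zero, add_zero]
  intro y hy
  obtain ⟨h1, h2⟩ := Finset.mem_Ioo.1 hy
  rw [hg x y h2 (lt_of_lt_of_le (kap_lt h1 h2).1 hn), zero_mul]

theorem van_one (n : ℕ) : Van φ n (1 : G) := fun x z hzx _ => by
  rw [map_one, Matrix.one_apply_ne hzx.ne']

theorem van_mul {n : ℕ} {g h : G} (hg : Van φ n g) (hh : Van φ n h) : Van φ n (g * h) := fun x z hzx hn => by
  rw [mul_entry_van φ hlow hg x z hzx hn.le, hg x z hzx hn, hh x z hzx hn, add_zero]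

/-- the congruence subgroup -/
def vanGroup (n : ℕ) : Subgroup G where
  carrier := {g | Van φ n g}
  one_mem' := van_one φ hlow n
  mul_mem' := fun hg hh => van_mul φ hlow hg hh
  inv_mem' := fun {g} hg => by
    have hpow : ∀ k : ℕ, Van φ n (g ^ k) := fun k => by
      induction k with
      | zero => simpa using van_one φ hlow n
      | succ k ih => rw [pow_succ]; exact van_mul φ hlow ih hg
    have e : g⁻¹ = g ^ (orderOf g - 1) := by
      rw [inv_eq_iff_mul_eq_one, ← pow_succ', Nat.sub_add_cancel (orderOf_pos g), pow_orderOf_eq_one]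
    show Van φ n g⁻¹
    rw [e]
    exact hpow _

/-- the entry at `(x, z)` as a homomorphism -/
noncomputable def entryHom (X : Subgroup G) (x z : Fin a) (hzx : z < x) :
    ↥(X ⊓ vanGroup φ hlow (kap x z)) →* Multiplicative (ZMod p) where
  toFun g := Multiplicative.ofAdd (φ (g : G) x z)
  map_one' := by
    show Multiplicative.ofAdd (φ (1 : G) x z) = 1
    rw [map_one, Matrix.one_apply_ne hzx.ne']
    rfl
  map_mul' g h := by
    show Multiplicative.ofAdd (φ ((g : G) * h) x z) = _
    rw [mul_entry_van φ hlow g.2.2 x z hzx le_rfl, ofAdd_add]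

theorem card_step (X : Subgroup G) (x z : Fin a) (hzx : z < x) :
    Nat.card ↥(X ⊓ vanGroup φ hlow (kap x z)) =
      Nat.card (entryHom φ hlow X x z hzx).range * Nat.card ↥(X ⊓ vanGroup φ hlow (kap x z + 1)) := by
  set f := entryHom φ hlow X x z hzx
  have hk : f.ker.map (X ⊓ vanGroup φ hlow (kap x z)).subtype = X ⊓ vanGroup φ hlow (kap x z + 1) := by
    ext g
    constructor
    · rintro ⟨⟨g, hgX, hgv⟩, hker, rfl⟩
      refine ⟨hgX, fun u w hwu hlt => ?_⟩
      rcases Nat.lt_succ_iff_lt_or_eq.1 hlt with h | h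
      · exact hgv u w hwu h
      · obtain ⟨rfl, rfl⟩ := kap_inj hwu hzx h
        exact Multiplicative.ofAdd.injective (MonoidHom.mem_ker.1 hker)
    · rintro ⟨hgX, hgv⟩
      refine ⟨⟨g, hgX, fun u w hwu hlt => hgv u w hwu (by omega)⟩, ?_, rfl⟩
      show Multiplicative.ofAdd (φ g x z) = 1
      rw [hgv x z hzx (Nat.lt_succ_self _)]
      rfl
  rw [← hk, Subgroup.card_map_of_injective (Subgroup.subtype_injective _),
    ← Subgroup.index_ker, mul_comm, Subgroup.card_mul_index]

open scoped Classical in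
/-- **The bound.** -/
theorem pivot_bound (H F : Subgroup G) (hFH : F ≤ H) (hker : ∀ g ∈ H, φ g = 1 → g ∈ F)
    (hcomm : ∀ g ∈ H, ∀ h ∈ H, g * h * g⁻¹ * h⁻¹ ∈ F) :
    ∃ t : ℕ, 4 * t ≤ a * a ∧ Nat.card H ≤ p ^ t * Nat.card F := by
  let Piv : Subgroup G → Finset (Fin a × Fin a) := fun X =>
    Finset.univ.filter fun e => e.2 < e.1 ∧ ∃ g ∈ X, Van φ (kap e.1 e.2) g ∧ φ g e.1 e.2 ≠ 0
  set T := Piv H \ Piv F with hT
  refine ⟨T.card, ?_, ?_⟩
  · refine triangle_free_bound a Finset.univ T (by simp) (fun e he => ?_) ?_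
    · exact ⟨(mem_filter.1 (mem_sdiff.1 he).1).2.1, mem_univ _, mem_univ _⟩
    intro i j l hij hjl hil
    obtain ⟨hji, g, hg, hgv, hg0⟩ := (mem_filter.1 (mem_sdiff.1 hij).1).2
    obtain ⟨hlj, h, hh, hhv, hh0⟩ := (mem_filter.1 (mem_sdiff.1 hjl).1).2
    simp only at hji hgv hg0 hlj hhv hh0
    apply (mem_sdiff.1 hil).2
    set c := g * h * g⁻¹ * h⁻¹ with hc
    have hchg : c * (h * g) = g * h := by rw [hc]; group
    -- the lower entries vanish
    have hterm : ∀ x z : Fin a, z < x → kap x z ≤ kap i l → ∀ y ∈ Finset.Ioo z x,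
        φ h x y * φ g y z = 0 ∧ (φ g x y * φ h y z ≠ 0 → x = i ∧ y = j ∧ z = l) := by
      intro x z hzx hle y hy
      obtain ⟨hzy, hyx⟩ := Finset.mem_Ioo.1 hy
      have lex : ∀ u w u' w' : Fin a, kap u w ≤ kap u' w' →
          (u : ℕ) - w < (u' : ℕ) - w' ∨ ((u : ℕ) - w = (u' : ℕ) - w' ∧ (w : ℕ) ≤ w') := by
        intro u w u' w' hh'
        unfold kap at hh'
        rcases lt_trichotomy ((u : ℕ) - w) ((u' : ℕ) - w') with h1 | h1 | h1
        · exact Or.inl h1
        · rw [h1] at hh'; exact Or.inr ⟨h1, by omega⟩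
        · have e1 := Nat.mul_le_mul_right a (show (u' : ℕ) - w' + 1 ≤ (u : ℕ) - w from h1)
          rw [add_mul, one_mul] at e1
          have := w'.isLt
          omega
      have hD := lex _ _ _ _ hle
      constructor
      · by_contra hne
        have e1 := lex j l x y (not_lt.1 fun hlt => (left_ne_zero_of_mul hne) (hhv x y hyx hlt))
        have e2 := lex i j y z (not_lt.1 fun hlt => (right_ne_zero_of_mul hne) (hgv y z hzy hlt))
        omega
      · intro hne
        have e1 := lex i j x y (not_lt.1 fun hlt => (left_ne_zero_of_mul hne) (hgv x y hyx hlt))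
        have e2 := lex j l y z (not_lt.1 fun hlt => (right_ne_zero_of_mul hne) (hhv y z hzy hlt))
        refine ⟨Fin.ext ?_, Fin.ext ?_, Fin.ext ?_⟩ <;> omega
    have hcv : ∀ n, n ≤ kap i l → Van φ n c := by
      intro n
      induction n with
      | zero => exact fun _ x z _ h' => absurd h' (Nat.not_lt_zero _)
      | succ n ih =>
        intro hn x z hzx hlt
        have ihc := ih (by omega)
        have hle : kap x z ≤ n := by omega
        have e1 := mul_entry_van φ hlow (h := h * g) ihc x z hzx hle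
        rw [hchg, mul_entry φ hlow g h x z hzx, mul_entry φ hlow h g x z hzx] at e1
        have h1 : ∑ y ∈ Finset.Ioo z x, φ h x y * φ g y z = 0 :=
          Finset.sum_eq_zero fun y hy => (hterm x z hzx (by omega) y hy).1
        have h2 : ∑ y ∈ Finset.Ioo z x, φ g x y * φ h y z = 0 := Finset.sum_eq_zero fun y hy => by
          by_contra hne
          obtain ⟨rfl, -, rfl⟩ := (hterm x z hzx (by omega) y hy).2 hne
          omega
        rw [h1, h2] at e1
        linear_combination -e1
    refine mem_filter.2 ⟨mem_univ _, hlj.trans hji, c, hcomm g hg h hh, hcv _ le_rfl, ?_⟩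
    have hli : l < i := hlj.trans hji
    have e1 := mul_entry_van φ hlow (h := h * g) (hcv _ le_rfl) i l hli le_rfl
    rw [hchg, mul_entry φ hlow g h i l hli, mul_entry φ hlow h g i l hli] at e1
    have h1 : ∑ y ∈ Finset.Ioo l i, φ h i y * φ g y l = 0 :=
      Finset.sum_eq_zero fun y hy => (hterm i l hli le_rfl y hy).1
    have h2 : ∑ y ∈ Finset.Ioo l i, φ g i y * φ h y l = φ g i j * φ h j l := by
      refine Finset.sum_eq_single j (fun y hy hyj => ?_) (fun hj => absurd (Finset.mem_Ioo.2 ⟨hlj, hji⟩) hj)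
      by_contra hne
      exact hyj ((hterm i l hli le_rfl y hy).2 hne).2.1
    rw [h1, h2] at e1
    intro hc0
    apply mul_ne_zero hg0 hh0
    rw [show φ c i l = 0 from hc0] at e1
    linear_combination e1
  -- the count
  let above : ℕ → Finset (Fin a × Fin a) := fun n => T.filter fun e => n ≤ kap e.1 e.2
  have hmain : ∀ d n, a * a + a ≤ n + d →
      Nat.card ↥(H ⊓ vanGroup φ hlow n) ≤ p ^ (above n).card * Nat.card ↥(F ⊓ vanGroup φ hlow n) := by
    intro d
    induction d with
    | zero =>
      intro n hn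
      have h1 : H ⊓ vanGroup φ hlow n ≤ F ⊓ vanGroup φ hlow n := fun g ⟨hg, hgv⟩ => by
        refine ⟨hker g hg ?_, hgv⟩
        ext x z
        by_cases hzx : z < x
        · rw [hgv x z hzx (lt_of_lt_of_le ?_ (show a * a + a ≤ n by omega)), Matrix.one_apply_ne hzx.ne']
          unfold kap
          have := x.isLt
          have := z.isLt
          have := Nat.mul_le_mul_right a (show (x : ℕ) - z ≤ a by omega)
          omega
        · rw [hlow g x z hzx, Matrix.one_apply]
      refine (Subgroup.card_le_of_le h1).trans ?_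
      exact Nat.le_mul_of_pos_left _ (pow_pos hp.out.pos _)
    | succ d ih =>
      intro n hn
      have hsub : above (n + 1) ⊆ above n := fun e he => by
        simp only [above, mem_filter] at he ⊢
        exact ⟨he.1, by omega⟩
      by_cases hex : ∃ x z : Fin a, z < x ∧ kap x z = n
      · obtain ⟨x, z, hzx, rfl⟩ := hex
        have hstep := ih (kap x z + 1) (by omega)
        rw [card_step φ hlow H x z hzx, card_step φ hlow F x z hzx]
        set cH := Nat.card (entryHom φ hlow H x z hzx).range
        set cF := Nat.card (entryHom φ hlow F x z hzx).range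
        have hP : Nat.card (Multiplicative (ZMod p)) = p := Nat.card_zmod p
        haveI : Fact (Nat.card (Multiplicative (ZMod p))).Prime := ⟨hP.symm ▸ hp.out⟩
        have hle : ∀ X : Subgroup G, ((x, z) ∈ Piv X → Nat.card (entryHom φ hlow X x z hzx).range = p) ∧
            ((x, z) ∉ Piv X → Nat.card (entryHom φ hlow X x z hzx).range = 1) := by
          intro X
          constructor
          · intro h'
            obtain ⟨-, g, hg, hgv, hg0⟩ := (mem_filter.1 h').2
            rcases Subgroup.eq_bot_or_eq_top_of_prime_card (entryHom φ hlow X x z hzx).range with hb | hb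
            · exact absurd (Multiplicative.ofAdd.injective
                ((Subgroup.eq_bot_iff_forall _).1 hb _ ⟨⟨g, hg, hgv⟩, rfl⟩)) hg0
            · rw [hb, Subgroup.card_top, hP]
          · intro h'
            rw [Subgroup.card_eq_one, Subgroup.eq_bot_iff_forall]
            rintro _ ⟨⟨g, hg, hgv⟩, rfl⟩
            by_contra hne
            refine h' (mem_filter.2 ⟨mem_univ _, hzx, g, hg, hgv, fun h0 => hne ?_⟩)
            show Multiplicative.ofAdd (φ g x z) = 1
            rw [h0]
            rfl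
        by_cases hH : (x, z) ∈ Piv H
        · by_cases hF : (x, z) ∈ Piv F
          · rw [show cH = p from (hle H).1 hH, show cF = p from (hle F).1 hF, mul_left_comm]
            refine Nat.mul_le_mul_left p (hstep.trans (Nat.mul_le_mul_right _ ?_))
            exact Nat.pow_le_pow_right hp.out.pos (card_le_card hsub)
          · rw [show cH = p from (hle H).1 hH, show cF = 1 from (hle F).2 hF, one_mul]
            have : (above (kap x z + 1)).card + 1 ≤ (above (kap x z)).card := by
              refine card_lt_card ((Finset.ssubset_iff_of_subset hsub).2 ⟨(x, z), ?_, ?_⟩)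
              · simp [above, T, hH, hF]
              · simp [above]
            calc p * Nat.card ↥(H ⊓ vanGroup φ hlow (kap x z + 1))
                ≤ p * (p ^ (above (kap x z + 1)).card * Nat.card ↥(F ⊓ vanGroup φ hlow (kap x z + 1))) :=
                  Nat.mul_le_mul_left p hstep
              _ = p ^ ((above (kap x z + 1)).card + 1) * Nat.card ↥(F ⊓ vanGroup φ hlow (kap x z + 1)) := by ring
              _ ≤ _ := Nat.mul_le_mul_right _ (Nat.pow_le_pow_right hp.out.pos this)
        · rw [show cH = 1 from (hle H).2 hH, one_mul]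
          refine hstep.trans (Nat.mul_le_mul (Nat.pow_le_pow_right hp.out.pos (card_le_card hsub)) ?_)
          exact Nat.le_mul_of_pos_left _ Nat.card_pos
      · have hsame : ∀ g : G, g ∈ vanGroup φ hlow n ↔ g ∈ vanGroup φ hlow (n + 1) := fun g =>
          ⟨fun hg u w hwu hlt => hg u w hwu (by
            rcases Nat.lt_succ_iff_lt_or_eq.1 hlt with h' | h'
            · exact h'
            · exact absurd ⟨u, w, hwu, h'⟩ hex),
           fun hg u w hwu hlt => hg u w hwu (by omega)⟩
        rw [show vanGroup φ hlow n = vanGroup φ hlow (n + 1) from SetLike.ext hsame]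
        exact (ih (n + 1) (by omega)).trans
          (Nat.mul_le_mul_right _ (Nat.pow_le_pow_right hp.out.pos (card_le_card hsub)))
  have h0 : vanGroup φ hlow 0 = ⊤ := eq_top_iff.2 fun g _ x z _ h' => absurd h' (Nat.not_lt_zero _)
  have := hmain (a * a + a) 0 (by omega)
  rw [h0, inf_top_eq, inf_top_eq] at this
  exact this.trans (Nat.mul_le_mul_right _ (Nat.pow_le_pow_right hp.out.pos (card_le_card (filter_subset _ _))))

end

end Cfsg.Agent.RankBound
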