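import Mathlib

/-! A `p`-group of linear maps in characteristic `p` is triangular in some basis. -/

set_option autoImplicit false

namespace Cfsg.Agent.RankBound

open Module

variable {p : ℕ} [hp : Fact p.Prime] {G : Type*} [Group G] [Finite G]

universe u

theorem exists_triangular_basis (hG : IsPGroup p G) : ∀ (a : ℕ) (V : Type u) [AddCommGroup V]
    [Module (ZMod p) V] [Finite V] (ρ : Representation (ZMod p) G V), finrank (ZMod p) V = a →
    ∃ b : Basis (Fin a) (ZMod p) V, ∀ g j, ρ g (b j) - b j ∈ Submodule.span (ZMod p) (b '' Set.Ioi j) := by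
  intro a
  induction a with
  | zero =>
    intro V _ _ _ ρ hV
    exact ⟨Module.finBasisOfFinrankEq _ _ hV, fun g j => j.elim0⟩
  | succ a ih =>
    intro V _ _ _ ρ hV
    obtain ⟨v, hvfix, hv0⟩ : ∃ v : V, (∀ g, ρ g v = v) ∧ v ≠ 0 := by
      letI act : MulAction G V :=
        { smul := fun g v => ρ g v
          one_smul := fun v => by show ρ 1 v = v; simp
          mul_smul := fun g h v => by show ρ (g * h) v = ρ g (ρ h v); simp }
      haveI : FiniteDimensional (ZMod p) V := Module.Finite.of_finite
      have hc : p ∣ Nat.card V := by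
        rw [Module.natCard_eq_pow_finrank (K := ZMod p), hV, Nat.card_zmod]
        exact dvd_pow_self p (Nat.succ_ne_zero a)
      obtain ⟨v, hv, hne⟩ := hG.exists_fixed_point_of_prime_dvd_card_of_fixed_point V hc (a := 0)
        (fun g => map_zero (ρ g))
      exact ⟨v, hv, hne.symm⟩
    set N : Submodule (ZMod p) V := Submodule.span (ZMod p) {v} with hN
    have hNle : ∀ g, N ≤ N.comap (ρ g) := fun g => by
      rw [hN, Submodule.span_le]
      intro x hx
      rw [Set.mem_singleton_iff.1 hx]
      show ρ g v ∈ Submodule.span (ZMod p) {v}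
      rw [hvfix]
      exact Submodule.mem_span_singleton_self v
    let ρ' : Representation (ZMod p) G (V ⧸ N) :=
      { toFun := fun g => N.mapQ N (ρ g) (hNle g)
        map_one' := by
          apply Submodule.linearMap_qext
          ext x
          simp
        map_mul' := fun g h => by
          apply Submodule.linearMap_qext
          ext x
          simp }
    have hfr : finrank (ZMod p) (V ⧸ N) = a := by
      have := N.finrank_quotient_add_finrank
      rw [hV, hN, finrank_span_singleton hv0] at this
      rw [hN]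
      omega
    haveI : Finite (V ⧸ N) := Finite.of_surjective N.mkQ (Submodule.mkQ_surjective N)
    obtain ⟨b', hb'⟩ := ih (V ⧸ N) ρ' hfr
    choose l hl using fun j => Submodule.mkQ_surjective N (b' j)
    let w : Fin (a + 1) → V := Fin.snoc l v
    have hwc : ∀ j : Fin a, w j.castSucc = l j := fun j => Fin.snoc_castSucc (α := fun _ => V) v l j
    have hwl : w (Fin.last a) = v := Fin.snoc_last (α := fun _ => V) v l
    have hvsub : ∀ s : Set (Fin (a + 1)), Fin.last a ∈ s → N ≤ Submodule.span (ZMod p) (w '' s) := fun s hs => by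
      rw [hN, Submodule.span_le]
      intro x hx
      rw [Set.mem_singleton_iff.1 hx]
      exact Submodule.subset_span ⟨_, hs, hwl⟩
    have key : ∀ (s : Set (Fin a)) (s' : Set (Fin (a + 1))), Fin.castSucc '' s ⊆ s' → Fin.last a ∈ s' →
        ∀ x : V, N.mkQ x ∈ Submodule.span (ZMod p) (b' '' s) → x ∈ Submodule.span (ZMod p) (w '' s') := by
      intro s s' hss hlast x hx
      have he : b' '' s = N.mkQ '' (l '' s) := by
        rw [← Set.image_comp]
        exact Set.image_congr fun j _ => (hl j).symm
      rw [he, Submodule.span_image] at hx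
      obtain ⟨y, hy, hyx⟩ := hx
      have h1 : y ∈ Submodule.span (ZMod p) (w '' s') := by
        refine Submodule.span_mono ?_ hy
        rintro _ ⟨j, hj, rfl⟩
        exact ⟨j.castSucc, hss ⟨j, hj, rfl⟩, hwc j⟩
      have h2 : x - y ∈ N := (Submodule.Quotient.eq N).1 hyx.symm
      simpa using add_mem (hvsub s' hlast h2) h1
    have hspan : ⊤ ≤ Submodule.span (ZMod p) (Set.range w) := fun x _ => by
      rw [← Set.image_univ]
      exact key Set.univ Set.univ (Set.subset_univ _) trivial x (by rw [Set.image_univ, b'.span_eq]; trivial)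
    let b := basisOfTopLeSpanOfCardEqFinrank w hspan (by rw [Fintype.card_fin, hV])
    have hb : ⇑b = w := coe_basisOfTopLeSpanOfCardEqFinrank w hspan _
    refine ⟨b, fun g j => ?_⟩
    rw [hb]
    induction j using Fin.lastCases with
    | last => rw [hwl, hvfix, sub_self]; exact zero_mem _
    | cast j =>
      rw [hwc]
      refine key (Set.Ioi j) _ ?_ (Fin.castSucc_lt_last j) _ ?_
      · rintro _ ⟨i, hi, rfl⟩
        exact Fin.castSucc_lt_castSucc_iff.2 hi
      · have := hb' g j
        rw [← hl j] at this
        simpa [ρ'] using this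

/-- The triangular matrix representation attached to a representation of a `p`-group. -/
theorem exists_triangular_hom (hG : IsPGroup p G) {V : Type u} [AddCommGroup V] [Module (ZMod p) V] [Finite V]
    (ρ : Representation (ZMod p) G V) (a : ℕ) (ha : finrank (ZMod p) V = a) :
    ∃ φ : G →* Matrix (Fin a) (Fin a) (ZMod p),
      (∀ g i j, ¬ j < i → φ g i j = if i = j then 1 else 0) ∧ ∀ g, φ g = 1 → ρ g = 1 := by
  obtain ⟨b, hb⟩ := exists_triangular_basis hG a V ρ ha
  let φ : G →* Matrix (Fin a) (Fin a) (ZMod p) :=
    (LinearMap.toMatrixAlgEquiv b).toMonoidHom.comp ρ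
  have hφ : ∀ g, φ g = LinearMap.toMatrixAlgEquiv b (ρ g) := fun g => rfl
  refine ⟨φ, fun g i j hij => ?_, fun g hg => ?_⟩
  · rw [hφ, LinearMap.toMatrixAlgEquiv_apply]
    have hmem := hb g j
    have h0 : b.repr (ρ g (b j) - b j) i = 0 := by
      have := b.repr_support_subset_of_mem_span _ hmem
      by_contra hne
      exact hij (this (Finsupp.mem_support_iff.2 hne))
    rw [map_sub, Finsupp.sub_apply, sub_eq_zero] at h0
    rw [h0, b.repr_self, Finsupp.single_apply]
    simp [eq_comm]
  · exact (LinearMap.toMatrixAlgEquiv b).injective (hg.trans (map_one _).symm)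

/-- The triangular matrices of a `p`-group acting additively on a group of exponent `p`. -/
theorem exists_triangular_of_addHom (hG : IsPGroup p G) {V : Type u} [AddCommGroup V] [Module (ZMod p) V]
    [Finite V] (κ : G → (V →+ V)) (h1 : ∀ x, κ 1 x = x)
    (hmul : ∀ g h x, κ (g * h) x = κ g (κ h x)) (a : ℕ) (ha : Nat.card V = p ^ a) :
    ∃ φ : G →* Matrix (Fin a) (Fin a) (ZMod p),
      (∀ g i j, ¬ j < i → φ g i j = if i = j then 1 else 0) ∧ ∀ g, φ g = 1 → ∀ x, κ g x = x := by
  let L : G → Module.End (ZMod p) V := fun g => AddMonoidHom.toZModLinearMap p (κ g)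
  let ρ : Representation (ZMod p) G V :=
    { toFun := L
      map_one' := by
        apply LinearMap.ext
        intro x
        exact h1 x
      map_mul' := fun g h => by
        apply LinearMap.ext
        intro x
        exact hmul g h x }
  haveI : Module.Finite (ZMod p) V := Module.Finite.of_finite
  have hfr : finrank (ZMod p) V = a := by
    have h2 : Nat.card V = Nat.card (ZMod p) ^ finrank (ZMod p) V :=
      Module.natCard_eq_pow_finrank
    rw [Nat.card_zmod] at h2
    exact Nat.pow_right_injective hp.out.two_le (h2.symm.trans ha)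
  obtain ⟨φ, e1, e2⟩ := exists_triangular_hom hG ρ a hfr
  refine ⟨φ, e1, fun g hg x => ?_⟩
  show ρ g x = x
  rw [e2 g hg]
  rfl

/-- The triangular matrices of a `p`-group acting on an elementary abelian `p`-group. -/
theorem exists_triangular_of_mulAut (hG : IsPGroup p G) {M : Type u} [CommGroup M] [Finite M]
    (hM : ∀ x : M, x ^ p = 1) (κ : G →* MulAut M) (a : ℕ) (ha : Nat.card M = p ^ a) :
    ∃ φ : G →* Matrix (Fin a) (Fin a) (ZMod p),
      (∀ g i j, ¬ j < i → φ g i j = if i = j then 1 else 0) ∧ ∀ g, φ g = 1 → ∀ x, κ g x = x := by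
  haveI : Nonempty (Module (ZMod p) (Additive M)) := ⟨AddCommGroup.zmodModule fun x =>
    Additive.toMul.injective (by rw [toMul_nsmul, toMul_zero]; exact hM _)⟩
  obtain ⟨i⟩ := this
  letI := i
  obtain ⟨φ, e1, e2⟩ := exists_triangular_of_addHom (V := Additive M) hG
    (fun g => MonoidHom.toAdditive (κ g).toMonoidHom)
    (fun x => by
      show Additive.ofMul (κ 1 x.toMul) = x
      rw [map_one]; rfl)
    (fun g h x => by
      show Additive.ofMul (κ (g * h) x.toMul) = Additive.ofMul (κ g (κ h x.toMul))
      rw [map_mul]; rfl)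
    a ha
  exact ⟨φ, e1, fun g hg x => Additive.ofMul.injective (e2 g hg (Additive.ofMul x))⟩

end Cfsg.Agent.RankBound
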